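import Cfsg.Agent.H480.Kill
import Cfsg.Agent.SporRec.Fi23Perm
import Cfsg.Agent.Fischer.Fi23Simple
import Cfsg.Agent.BabyM.Fi23B
import Cfsg.Agent.BabyM.Instance
import Cfsg.Agent.BM.KHAll
import Cfsg.Agent.S1697
import Cfsg.Agent.Prune
set_option linter.all false
prune_inst 0x7f00000000000000000000000000000000000000000000000000000000000000000000000000000000000000000000000000000000000000000000000000000000000000000000000000000000000000003fffffffffffffffffffffffffffbeffbdffffffff
open scoped Cfsg.Agent.FastGrp

-- part: H54/Kill/Base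
section
/-!
# Kill criteria with a cyclic Sylow subgroup (helper54, for helper480's S3925, S3926)

* `kill_of_sylow` : if `r` divides `|S|` exactly once, `z` has order `r` and `d, q` commute with `z` such that
  `[q, d]` has order prime to that of `d` and does not commute with `d`, then `Kill S`;
* `kill_of_invol` : the case of two involutions `a ≠ b` with `(a b) ^ 3 = 1` commuting with `z`, `r` odd;
* `kill_of_invol_period` : the same with an element `w` of order divisible by `r` instead of `z`.
-/

set_option autoImplicit false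

namespace Cfsg.Agent.H54.Kill

open Subgroup Cfsg.Agent.H480

variable {S : Type*} [Group S]

end Cfsg.Agent.H54.Kill
end

-- part: H54/Kill/Period
section
/-!
# Orders from one point (helper54)

`dvd_orderOf_of_point` : if `g ^ r` fixes a point and `g` does not (`r` prime), then `r` divides the order of `g`.
-/

set_option autoImplicit false

namespace Cfsg.Agent.H54.Kill

end Cfsg.Agent.H54.Kill
end

-- part: H54/Kill/Fi23
section
/-!
# Kill row for Fi23 (helper54)

The seven-cycle on the path `i - h - d - e - f - g` commutes with the symmetric group generated by `a, b`.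
-/

set_option autoImplicit false
set_option maxRecDepth 100000

namespace Cfsg.Agent.H54.Kill.Fi23

open Cfsg Cfsg.Spor Cfsg.Agent.Lib.PermNet Cfsg.Agent.Lib.PermNetOrbit
open Cfsg.Agent.SporRec.Fi23Rel Cfsg.Agent.SporRec.Fi23Perm Cfsg.Agent.H480

end Cfsg.Agent.H54.Kill.Fi23
end

-- part: H54/Kill/Fi23Words
section
/-!
# Elements of orders 13 and 17 of `Fi23` (helper54, for the Kill rows `B` and `M`)

* `w13` has order divisible by 13 and commutes with the adjacent nodes `a`, `b` (it lies in `Ω₇(3)`);
* `w17` has order divisible by 17.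
-/

set_option autoImplicit false
set_option maxRecDepth 100000

namespace Cfsg.Agent.H54.Kill.Fi23Words

open Cfsg Cfsg.Spor Cfsg.Agent.Lib.PermNet Cfsg.Agent.Lib.PermNetOrbit
open Cfsg.Agent.SporRec.Fi23Rel Cfsg.Agent.SporRec.Fi23Perm Cfsg.Agent.H480
open Cfsg.Agent.ChevalleyStructure.CoxeterGeom Cfsg.Agent.ChevalleyStructure.CoxeterWordCheck

/-! ### the word problem of the Coxeter group -/

variable {G : Type*} [Group G]

/-! ### the words -/

end Cfsg.Agent.H54.Kill.Fi23Words
end

-- part: H54/Kill/B
section
/-!
# Kill row for the Baby Monster (helper54): the subgroup `S₃ × Ω₇(3)` of `Fi23`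
-/

set_option autoImplicit false

namespace Cfsg.Agent.H54.Kill.B

open Subgroup Cfsg Cfsg.Spor
open Cfsg.Agent.BabyM.Inst Cfsg.Agent.BabyM.WordsInst Cfsg.Agent.BM.StageW Cfsg.Agent.MonsterX.WordSub
  Cfsg.Agent.MonsterX.WordRels Cfsg.Agent.BabyM.Fi23B

/-- `Fi23` is a subgroup of the Baby Monster -/
theorem exists_hom : ∃ f : Cfsg.Spor.Fi23 →* Cfsg.Spor.BabyMonster, Function.Injective f := by
  have A := Cfsg.Agent.BabyM.Instance.all
  have O := Cfsg.Agent.BabyM.Instance.ok
  obtain ⟨K, ⟨e⟩, -⟩ := exists_subgroup Cfsg.Spor.Fi23.edges Cfsg.Spor.Fi23.extra S1697.result.1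
    (fun t => x (Cfsg.Agent.BabyM.Fi23B.m t)) (by
      rintro r (hr | hr)
      · exact cox_lift _ _ (fun s _ t _ => by rw [label]; exact cox A O _ _) r hr
      · exact lift_extra fi23_extra _ (rels A O) r hr) ⟨.g, t2_ne⟩
  refine ⟨(BM.KHAll.iso.symm.toMonoidHom.comp K.subtype).comp e.toMonoidHom, ?_⟩
  exact (BM.KHAll.iso.symm.injective.comp K.subtype_injective).comp e.injective

end Cfsg.Agent.H54.Kill.B
end
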